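import Groth.Agent.DerLib.KInjDerived
import Mathlib.Algebra.Homology.DerivedCategory.RightDerivedFunctorPlus
import Mathlib.CategoryTheory.Adjunction.Restrict
import Mathlib.CategoryTheory.Localization.DerivabilityStructure.Derives

/-!
# Adjunctions between right derived functors on bounded below derived categories
-/

set_option autoImplicit false
set_option linter.style.haveILetI false
set_option backward.isDefEq.respectTransparency false
set_option backward.isDefEq.respectTransparency.types false

open CategoryTheory CategoryTheory.Limits

namespace DerPlusAdjLib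

universe v v' v'' u u' u'' w w'

variable {A : Type u} {B : Type u'} [Category.{v} A] [Category.{v'} B] [Abelian A] [Abelian B]
  {L : A ⥤ B} {R : B ⥤ A} (adj : L ⊣ R) [L.Additive] [R.Additive]

/-- An adjunction of additive functors induces one on bounded below homotopy categories. -/
noncomputable def mapPlusAdj : L.mapHomotopyCategoryPlus ⊣ R.mapHomotopyCategoryPlus :=
  (Groth.Agent.DerLib.KInjDerived.mapHomotopyCategoryAdj adj (ComplexShape.up ℤ)).restrictFullyFaithful
    (HomotopyCategory.Plus.fullyFaithfulι A) (HomotopyCategory.Plus.fullyFaithfulι B)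
    (Iso.refl _) (Iso.refl _)

variable [HasDerivedCategory.{w} A] [HasDerivedCategory.{w'} B]

/-- An exact functor inverts quasi-isomorphisms. -/
theorem isInvertedBy [PreservesFiniteLimits L] [PreservesFiniteColimits L] :
    (HomotopyCategory.Plus.quasiIso A).IsInvertedBy
      (L.mapHomotopyCategoryPlus ⋙ DerivedCategory.Plus.Qh) := by
  intro X Y f hf
  haveI : IsIso (DerivedCategory.Qh.map ((L.mapHomotopyCategory (ComplexShape.up ℤ)).map f.hom)) := by
    haveI : IsIso (DerivedCategory.Qh.map f.hom) :=
      Localization.inverts DerivedCategory.Qh (HomotopyCategory.quasiIso A (ComplexShape.up ℤ)) f.hom hf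
    exact (NatIso.isIso_map_iff L.mapDerivedCategoryFactorsh f.hom).1
      (inferInstanceAs (IsIso (L.mapDerivedCategory.map (DerivedCategory.Qh.map f.hom))))
  haveI : IsIso (DerivedCategory.Plus.ι.map
      ((L.mapHomotopyCategoryPlus ⋙ DerivedCategory.Plus.Qh).map f)) := by assumption
  exact isIso_of_reflects_iso _ DerivedCategory.Plus.ι

variable [EnoughInjectives A]

theorem isIso_unit_of_exact [PreservesFiniteLimits L] [PreservesFiniteColimits L] :
    IsIso L.rightDerivedFunctorPlusUnit :=
  Functor.isIso_of_isRightDerivedFunctor_of_inverts L.rightDerivedFunctorPlus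
    L.rightDerivedFunctorPlusUnit isInvertedBy

/-- The derived functors of an exact functor and its right adjoint are adjoint. -/
theorem nonempty_adj [PreservesFiniteLimits L] [PreservesFiniteColimits L] [EnoughInjectives B]
    (adj : L ⊣ R) : Nonempty (L.rightDerivedFunctorPlus ⊣ R.rightDerivedFunctorPlus) := by
  haveI := isIso_unit_of_exact (L := L)
  let WA := HomotopyCategory.Plus.quasiIso A
  let WB := HomotopyCategory.Plus.quasiIso B
  let e := (asIso L.rightDerivedFunctorPlusUnit).symm
  let β := R.rightDerivedFunctorPlusUnit
  haveI : L.rightDerivedFunctorPlus.IsLeftDerivedFunctor e.hom WA :=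
    Functor.isLeftDerivedFunctor_of_inverts WA _ e
  haveI : (L.rightDerivedFunctorPlus ⋙ R.rightDerivedFunctorPlus).IsLeftDerivedFunctor
      ((Functor.associator _ _ _).inv ≫ Functor.whiskerRight e.hom R.rightDerivedFunctorPlus) WA :=
    Functor.isLeftDerivedFunctor_of_inverts WA _
      ((Functor.associator _ _ _).symm ≪≫ Functor.isoWhiskerRight e R.rightDerivedFunctorPlus)
  haveI : (R.rightDerivedFunctorPlus ⋙ L.rightDerivedFunctorPlus).IsRightDerivedFunctor
      (Functor.whiskerRight β L.rightDerivedFunctorPlus ≫ (Functor.associator _ _ _).hom) WB := by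
    refine (HomotopyCategory.Plus.localizerMorphism_derives _).isRightDerivedFunctor_of_isIso _ fun X => ?_
    rw [NatTrans.comp_app, Functor.whiskerRight_app]
    infer_instance
  exact ⟨(mapPlusAdj adj).derived WA WB e.hom β⟩

end DerPlusAdjLib
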